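import Mathlib

set_option autoImplicit false

/-!
# 3-groups acting on a ternary tree, colour refinement (helper832)

`Iso a f` : the map `f` of the leaves acts on the ternary tree given by the 3-adic addresses `a` by rotations.

* `isoSub a` : the subgroup of permutations, a 3-group if `a` is injective (`isPGroup_isoSub`);
* `card_dvd` : `3 ^ m` divides the order of a group of such permutations with a triangular sequence of `m` elements;
* `nxt_inv` : a step of the colour refinement of a bipartite graph.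
-/

namespace Cfsg.Agent.H832.MF.Abs

open Equiv

variable {n : ℕ}

/-- `f` acts on the ternary tree by rotations -/
def Iso (a : Fin n → ℕ) (f : Fin n → Fin n) : Prop :=
  ∀ i j k, (3 : ℤ) ^ k ∣ (a i : ℤ) - a j → (3 : ℤ) ^ (k + 1) ∣ ((a (f i) : ℤ) - a (f j)) - (a i - a j)

theorem Iso.id (a : Fin n → ℕ) : Iso a fun i => i := by
  intro i j k _
  rw [sub_self]
  exact dvd_zero _

theorem Iso.dvd {a : Fin n → ℕ} {f : Fin n → Fin n} (h : Iso a f) {i j : Fin n} {k : ℕ}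
    (hk : (3 : ℤ) ^ k ∣ (a i : ℤ) - a j) : (3 : ℤ) ^ k ∣ (a (f i) : ℤ) - a (f j) := by
  have h1 := (pow_dvd_pow (3 : ℤ) (Nat.le_succ k)).trans (h i j k hk)
  have h2 := dvd_add h1 hk
  rwa [sub_add_cancel] at h2

theorem Iso.comp {a : Fin n → ℕ} {f g : Fin n → Fin n} (hf : Iso a f) (hg : Iso a g) :
    Iso a fun i => f (g i) := by
  intro i j k hk
  have h1 := hg i j k hk
  have h2 := hf (g i) (g j) k (hg.dvd hk)
  have h3 := dvd_add h2 h1
  rwa [sub_add_sub_cancel] at h3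

theorem Iso.dvd_iff {a : Fin n → ℕ} {f : Fin n → Fin n} (h : Iso a f) {i j : Fin n} (k : ℕ) :
    (3 : ℤ) ^ k ∣ (a (f i) : ℤ) - a (f j) ↔ (3 : ℤ) ^ k ∣ (a i : ℤ) - a j := by
  refine ⟨fun hk => ?_, h.dvd⟩
  induction k with
  | zero => rw [pow_zero]; exact one_dvd _
  | succ k ih =>
    have h1 := ih ((pow_dvd_pow (3 : ℤ) (Nat.le_succ k)).trans hk)
    have h2 := dvd_sub hk (h i j k h1)
    rwa [sub_sub_cancel] at h2

theorem eq_of_dvd {a : Fin n → ℕ} (ha : Function.Injective a) {i j : Fin n}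
    (h : ∀ k : ℕ, (3 : ℤ) ^ k ∣ (a i : ℤ) - a j) : i = j := by
  apply ha
  have h1 := h (a i + a j)
  have h2 : ((a i : ℤ) - a j).natAbs < 3 ^ (a i + a j) := by
    refine lt_of_le_of_lt ?_ (Nat.lt_pow_self (by norm_num : 1 < 3))
    omega
  have h3 : ((a i : ℤ) - a j) = 0 := by
    apply Int.eq_zero_of_abs_lt_dvd h1
    rw [Int.abs_eq_natAbs]
    exact_mod_cast h2
  omega

theorem Iso.injective {a : Fin n → ℕ} (ha : Function.Injective a) {f : Fin n → Fin n} (h : Iso a f) :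
    Function.Injective f := by
  intro i j hij
  apply eq_of_dvd ha
  intro k
  rw [← h.dvd_iff k, hij, sub_self]
  exact dvd_zero _

/-- the permutations acting by rotations -/
def isoSub (a : Fin n → ℕ) : Subgroup (Perm (Fin n)) where
  carrier := {f | Iso a f}
  one_mem' := Iso.id a
  mul_mem' := fun {f g} hf hg => Iso.comp (f := f) (g := g) hf hg
  inv_mem' := by
    intro f hf i j k hk
    have hi : f (f⁻¹ i) = i := f.apply_symm_apply i
    have hj : f (f⁻¹ j) = j := f.apply_symm_apply j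
    have h1 : (3 : ℤ) ^ k ∣ (a (f⁻¹ i) : ℤ) - a (f⁻¹ j) := by
      rw [← Iso.dvd_iff hf k, hi, hj]; exact hk
    have h2 := hf (f⁻¹ i) (f⁻¹ j) k h1
    rw [hi, hj, ← dvd_neg, neg_sub] at h2
    exact h2

theorem mem_isoSub {a : Fin n → ℕ} {f : Perm (Fin n)} : f ∈ isoSub a ↔ Iso a f := Iff.rfl

theorem pow_step {a : Fin n → ℕ} {f : Perm (Fin n)} (h : Iso a f) {m : ℕ}
    (hm : ∀ i, (3 : ℤ) ^ m ∣ (a (f i) : ℤ) - a i) (i : Fin n) : (3 : ℤ) ^ (m + 1) ∣ (a ((f ^ 3) i) : ℤ) - a i := by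
  have e : (f ^ 3) i = f (f (f i)) := by
    rw [pow_succ, pow_succ, pow_one, Perm.mul_apply, Perm.mul_apply]
  rw [e]
  have h1 := h (f i) i m (hm i)
  have h2 := h (f (f i)) (f i) m (hm (f i))
  obtain ⟨x, hx⟩ := hm i
  have h3 : (3 : ℤ) ^ (m + 1) ∣ 3 * ((a (f i) : ℤ) - a i) := by
    rw [hx]
    exact ⟨x, by ring⟩
  have h4 := dvd_add (dvd_add h2 (dvd_add h1 h1)) h3
  have e2 : (a (f (f (f i))) : ℤ) - a (f (f i)) - (a (f (f i)) - a (f i)) + (a (f (f i)) - a (f i) - (a (f i) - a i) +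
      (a (f (f i)) - a (f i) - (a (f i) - a i))) + 3 * (a (f i) - a i) = a (f (f (f i))) - a i := by ring
  rwa [e2] at h4

theorem pow_dvd {a : Fin n → ℕ} {f : Perm (Fin n)} (h : f ∈ isoSub a) (m : ℕ) (i : Fin n) :
    (3 : ℤ) ^ m ∣ (a ((f ^ 3 ^ m) i) : ℤ) - a i := by
  induction m generalizing i with
  | zero => rw [pow_zero]; exact one_dvd _
  | succ m ih =>
    rw [show (f ^ 3 ^ (m + 1)) = (f ^ 3 ^ m) ^ 3 by rw [← pow_mul, pow_succ]]
    exact pow_step (mem_isoSub.1 ((isoSub a).pow_mem h _)) ih i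

theorem isPGroup_isoSub {a : Fin n → ℕ} (ha : Function.Injective a) : IsPGroup 3 (isoSub a) := by
  rintro ⟨f, hf⟩
  let M := ∑ i, a i
  refine ⟨M, Subtype.ext ?_⟩
  rw [SubmonoidClass.coe_pow]
  change f ^ 3 ^ M = 1
  ext i
  rw [Perm.one_apply]
  congr 1
  apply ha
  have h1 := pow_dvd hf M i
  have hle : ∀ j, a j ≤ M := fun j => Finset.single_le_sum (f := a) (fun _ _ => Nat.zero_le _) (Finset.mem_univ j)
  have hlt : M < 3 ^ M := Nat.lt_pow_self (by norm_num)
  have h3 : ((a ((f ^ 3 ^ M) i) : ℤ) - a i) = 0 := by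
    apply Int.eq_zero_of_abs_lt_dvd h1
    have e1 := hle ((f ^ 3 ^ M) i)
    have e2 := hle i
    have e3 : ((M : ℕ) : ℤ) < 3 ^ M := by exact_mod_cast hlt
    rw [abs_lt]
    constructor <;> omega
  omega

/-- a chain of subgroups of a 3-group -/
theorem chain {G : Type*} [Group G] [Finite G] (hG : IsPGroup 3 G) (K : ℕ → Subgroup G)
    (hK : ∀ j, K (j + 1) ≤ K j) {m : ℕ} (h : ∀ j < m, ∃ w ∈ K j, w ∉ K (j + 1)) : 3 ^ m ∣ Nat.card (K 0) := by
  have key : ∀ d ≤ m, 3 ^ d ∣ Nat.card (K (m - d)) := by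
    intro d hd
    induction d with
    | zero => rw [pow_zero]; exact one_dvd _
    | succ d ih =>
      have ih' := ih (by omega)
      have e : m - d = m - (d + 1) + 1 := by omega
      rw [e] at ih'
      set j := m - (d + 1) with hj
      obtain ⟨w, hw, hw'⟩ := h j (by omega)
      obtain ⟨u, hu⟩ := (hG.to_subgroup (K j)).exists_card_eq
      have h1 : Nat.card (K j) = (K (j + 1)).relIndex (K j) * Nat.card (K (j + 1)) := by
        rw [← Subgroup.card_mul_index ((K (j + 1)).subgroupOf (K j)), mul_comm]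
        congr 1
        exact Nat.card_congr (Subgroup.subgroupOfEquivOfLe (hK j)).toEquiv
      have h2 : (K (j + 1)).relIndex (K j) ∣ 3 ^ u := by
        rw [← hu, h1]; exact dvd_mul_right _ _
      obtain ⟨v, -, hv⟩ := (Nat.dvd_prime_pow Nat.prime_three).1 h2
      have h3 : v ≠ 0 := by
        rintro rfl
        rw [pow_zero, Subgroup.relIndex_eq_one] at hv
        exact hw' (hv hw)
      rw [h1, pow_succ']
      refine mul_dvd_mul ?_ ih'
      rw [hv]
      exact dvd_pow_self 3 h3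
  have := key m le_rfl
  rwa [Nat.sub_self] at this

/-- the permutations in `Q` with `a (q (b l)) ≡ a (b l)` modulo `3 ^ e l` for all `l < j` -/
def Kc (a : Fin n → ℕ) (Q : Subgroup (Perm (Fin n))) (hQ : Q ≤ isoSub a) (b : ℕ → Fin n) (e : ℕ → ℕ) (j : ℕ) :
    Subgroup (Perm (Fin n)) where
  carrier := {q | q ∈ Q ∧ ∀ l < j, (3 : ℤ) ^ e l ∣ (a (q (b l)) : ℤ) - a (b l)}
  one_mem' := ⟨Q.one_mem, fun l _ => by rw [Perm.one_apply, sub_self]; exact dvd_zero _⟩
  mul_mem' := by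
    rintro f g ⟨hf, hf'⟩ ⟨hg, hg'⟩
    refine ⟨Q.mul_mem hf hg, fun l hl => ?_⟩
    have h1 := Iso.dvd (mem_isoSub.1 (hQ hf)) (hg' l hl)
    have h2 := dvd_add h1 (hf' l hl)
    rw [Perm.mul_apply]
    rwa [sub_add_sub_cancel] at h2
  inv_mem' := by
    rintro f ⟨hf, hf'⟩
    refine ⟨Q.inv_mem hf, fun l hl => ?_⟩
    have h1 := Iso.dvd (mem_isoSub.1 (hQ (Q.inv_mem hf))) (hf' l hl)
    have e1 : f⁻¹ (f (b l)) = b l := f.symm_apply_apply _
    rw [e1, ← dvd_neg, neg_sub] at h1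
    exact h1

theorem card_dvd {a : Fin n → ℕ} (ha : Function.Injective a) {Q : Subgroup (Perm (Fin n))} (hQ : Q ≤ isoSub a)
    (b : ℕ → Fin n) (e : ℕ → ℕ) {m : ℕ}
    (hw : ∀ j < m, ∃ w ∈ Q, (∀ l < j, (3 : ℤ) ^ e l ∣ (a (w (b l)) : ℤ) - a (b l)) ∧
      ¬ (3 : ℤ) ^ e j ∣ (a (w (b j)) : ℤ) - a (b j)) : 3 ^ m ∣ Nat.card Q := by
  have hp : IsPGroup 3 Q := (isPGroup_isoSub ha).to_le hQ
  have hle : ∀ j, Kc a Q hQ b e j ≤ Q := fun j q hq => hq.1
  have h1 := chain hp (fun j => (Kc a Q hQ b e j).subgroupOf Q) (fun j => ?_) (m := m) ?_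
  · have e0 : (Kc a Q hQ b e 0).subgroupOf Q = ⊤ := by
      rw [Subgroup.subgroupOf_eq_top]
      exact fun q hq => ⟨hq, fun l hl => absurd hl (Nat.not_lt_zero l)⟩
    simp only [e0, Nat.card_congr Subgroup.topEquiv.toEquiv] at h1
    exact h1
  · intro q hq
    rw [Subgroup.mem_subgroupOf] at hq ⊢
    exact ⟨hq.1, fun l hl => hq.2 l (Nat.lt_succ_of_lt hl)⟩
  · intro j hj
    obtain ⟨w, hwQ, h2, h3⟩ := hw j hj
    refine ⟨⟨w, hwQ⟩, ?_, ?_⟩
    · rw [Subgroup.mem_subgroupOf]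
      exact ⟨hwQ, h2⟩
    · rw [Subgroup.mem_subgroupOf]
      exact fun h => h3 (h.2 j (Nat.lt_succ_self j))

/-- the criterion for tables -/
theorem iso_of_table {a : Fin n → ℕ} {f : Fin n → Fin n} (R : ℕ → Fin n) {M : ℕ} (hM : ∀ i, a i < 3 ^ M)
    (ha : Function.Injective a)
    (h : ∀ i, ∀ k < M, (a (f i) + a (R (a i % 3 ^ k))) % 3 ^ (k + 1) = (a i + a (f (R (a i % 3 ^ k)))) % 3 ^ (k + 1)) :
    Iso a f := by
  intro i j k hk
  rcases Nat.lt_or_ge k M with hkM | hkM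
  · have h1 := h i k hkM
    have h2 := h j k hkM
    have e : a i % 3 ^ k = a j % 3 ^ k := by
      have h3 : (a j : ℤ) ≡ a i [ZMOD ((3 ^ k : ℕ) : ℤ)] := by
        rw [Int.modEq_iff_dvd]; exact_mod_cast hk
      exact ((Int.natCast_modEq_iff.1 h3).symm)
    rw [← e] at h2
    set r := R (a i % 3 ^ k)
    have h3 := (Int.natCast_modEq_iff.2 (show a (f i) + a r ≡ a i + a (f r) [MOD 3 ^ (k + 1)] from h1)).dvd
    have h4 := (Int.natCast_modEq_iff.2 (show a (f j) + a r ≡ a j + a (f r) [MOD 3 ^ (k + 1)] from h2)).dvd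
    have h5 := dvd_sub h4 h3
    have e2 : (3 : ℤ) ^ (k + 1) = ((3 ^ (k + 1) : ℕ) : ℤ) := by push_cast; rfl
    rw [e2]
    push_cast at h5 ⊢
    have e3 : ((a j : ℤ) + a (f r) - (a (f j) + a r)) - (a i + a (f r) - (a (f i) + a r)) =
        a (f i) - a (f j) - (a i - a j) := by ring
    rwa [e3] at h5
  · have e : i = j := by
      apply ha
      have h1 := (pow_dvd_pow (3 : ℤ) hkM).trans hk
      have h3 : ((a i : ℤ) - a j) = 0 := by
        apply Int.eq_zero_of_abs_lt_dvd h1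
        have e1 : ((a i : ℕ) : ℤ) < 3 ^ M := by exact_mod_cast hM i
        have e2 : ((a j : ℕ) : ℤ) < 3 ^ M := by exact_mod_cast hM j
        rw [abs_lt]
        constructor <;> omega
      omega
    rw [e, sub_self, sub_self, sub_self]
    exact dvd_zero _

/-! ### Colour refinement -/

/-- hash of a colour -/
def hsh (c : ℕ) : ℕ := (c * c * c + 12345) % 1000000007

/-- new colours of the rows -/
def nxt (N : ℕ) (M : ℕ → ℕ → Bool) (c c' : List ℕ) : List ℕ :=
  (List.range N).map fun i => (c.getD i 0 * 1000003 +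
    ((List.range N).map fun j => bif M i j then hsh (c'.getD j 0) else 0).sum) % 1000000007

theorem getD_nxt {N : ℕ} {M : ℕ → ℕ → Bool} {c c' : List ℕ} {i : ℕ} (hi : i < N) :
    (nxt N M c c').getD i 0 = (c.getD i 0 * 1000003 +
      ∑ j : Fin N, bif M i j then hsh (c'.getD j 0) else 0) % 1000000007 := by
  unfold nxt
  rw [List.getD_eq_getElem _ _ (by rw [List.length_map, List.length_range]; exact hi), List.getElem_map,
    List.getElem_range, Fin.sum_univ_eq_sum_range (fun j => bif M i j then hsh (c'.getD j 0) else 0),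
    Finset.sum_range]
  congr 2
  rw [← List.sum_ofFn]
  congr 1
  apply List.ext_getElem
  · simp
  · intro k h1 h2
    simp

theorem nxt_inv {N : ℕ} {M : ℕ → ℕ → Bool} {c c' : List ℕ} (s s' : Perm (Fin N))
    (hM : ∀ i j : Fin N, M (s i) (s' j) = M i j) (hc : ∀ i : Fin N, c.getD (s i) 0 = c.getD i 0)
    (hc' : ∀ i : Fin N, c'.getD (s' i) 0 = c'.getD i 0) (i : Fin N) :
    (nxt N M c c').getD (s i) 0 = (nxt N M c c').getD i 0 := by
  rw [getD_nxt (s i).2, getD_nxt i.2, hc i]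
  congr 2
  rw [← Equiv.sum_comp s']
  apply Finset.sum_congr rfl
  intro j _
  rw [hM, hc']

end Cfsg.Agent.H832.MF.Abs
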