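import Cfsg.Agent.H832.MF.Abs

set_option autoImplicit false

/-!
# The subgroup acting by tree rotations on a set of points (helper832)

`Stb ρ v a` : the elements `g` with `ρ g (v i) = v (σ i)` for a rotation `σ` of the tree given by `a`; `toP` : the
permutation `σ`. `card_dvd_succ` : the divisibility of the order; `stab_dvd` : the stabiliser of a point.
-/

namespace Cfsg.Agent.H832.MF.Act

open Equiv Cfsg.Agent.H832.MF.Abs

variable {G : Type*} [Group G] {X : Type*} (ρ : G →* Perm X) {n : ℕ} (v : Fin n → X) (a : Fin n → ℕ)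

/-- the elements acting by rotations -/
def Stb : Subgroup G where
  carrier := {g | ∃ σ ∈ isoSub a, ∀ i, ρ g (v i) = v (σ i)}
  one_mem' := ⟨1, one_mem _, fun i => by rw [map_one, Perm.one_apply, Perm.one_apply]⟩
  mul_mem' := by
    rintro g h ⟨σ, hσ, h1⟩ ⟨τ, hτ, h2⟩
    refine ⟨σ * τ, mul_mem hσ hτ, fun i => ?_⟩
    rw [map_mul, Perm.mul_apply, h2, h1, Perm.mul_apply]
  inv_mem' := by
    rintro g ⟨σ, hσ, h1⟩
    refine ⟨σ⁻¹, inv_mem hσ, fun i => ?_⟩
    rw [map_inv, Perm.inv_eq_iff_eq, h1]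
    exact congrArg v (σ.apply_symm_apply i).symm

variable {ρ v a}

theorem mem_Stb {g : G} : g ∈ Stb ρ v a ↔ ∃ σ ∈ isoSub a, ∀ i, ρ g (v i) = v (σ i) := Iff.rfl

/-- the permutation of an element -/
noncomputable def toF (g : Stb ρ v a) : Perm (Fin n) := (mem_Stb.1 g.2).choose

theorem toF_mem (g : Stb ρ v a) : toF g ∈ isoSub a := (mem_Stb.1 g.2).choose_spec.1

theorem toF_spec (g : Stb ρ v a) (i : Fin n) : ρ g (v i) = v (toF g i) := (mem_Stb.1 g.2).choose_spec.2 i

theorem toF_eq (hv : Function.Injective v) (g : Stb ρ v a) {σ : Perm (Fin n)} (h : ∀ i, ρ g (v i) = v (σ i)) :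
    toF g = σ := by
  ext i
  rw [← hv ((toF_spec g i).symm.trans (h i))]

/-- the homomorphism to the permutations -/
noncomputable def toP (hv : Function.Injective v) : Stb ρ v a →* Perm (Fin n) where
  toFun := toF
  map_one' := toF_eq hv _ fun i => by
    rw [Perm.one_apply, OneMemClass.coe_one, map_one, Perm.one_apply]
  map_mul' g h := toF_eq hv _ fun i => by
    rw [Subgroup.coe_mul, map_mul, Perm.mul_apply, Perm.mul_apply, toF_spec h, toF_spec g]

theorem toP_mem (hv : Function.Injective v) (g : Stb ρ v a) : toP hv g ∈ isoSub a := toF_mem g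

theorem toP_spec (hv : Function.Injective v) (g : Stb ρ v a) (i : Fin n) : ρ g (v i) = v (toP hv g i) := toF_spec g i

/-- a triangular sequence of length `m` and an element of order 3 acting trivially -/
theorem card_dvd_succ [Finite G] (hv : Function.Injective v) (ha : Function.Injective a) {P : Subgroup G}
    (hP : P ≤ Stb ρ v a) (b : ℕ → Fin n) (e : ℕ → ℕ) {m : ℕ}
    (hw : ∀ j < m, ∃ w ∈ P, ∃ f : Fin n → Fin n, (∀ i, ρ w (v i) = v (f i)) ∧
      (∀ l < j, (3 : ℤ) ^ e l ∣ (a (f (b l)) : ℤ) - a (b l)) ∧ ¬ (3 : ℤ) ^ e j ∣ (a (f (b j)) : ℤ) - a (b j))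
    {z : G} (hz : z ∈ P) (hz3 : z ^ 3 = 1) (hz1 : z ≠ 1) (hzv : ∀ i, ρ z (v i) = v i) :
    3 ^ (m + 1) ∣ Nat.card P := by
  let φ : P →* Perm (Fin n) := (toP hv).comp (Subgroup.inclusion hP)
  have hspec : ∀ (g : P) (i : Fin n), ρ (g : G) (v i) = v (φ g i) := fun g i =>
    toP_spec hv (Subgroup.inclusion hP g) i
  have hQ : φ.range ≤ isoSub a := by
    rintro _ ⟨g, rfl⟩
    exact toP_mem hv _
  have h1 : 3 ^ m ∣ Nat.card φ.range := by
    refine card_dvd ha hQ b e fun j hj => ?_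
    obtain ⟨w, hwP, f, hf, h2, h3⟩ := hw j hj
    have e1 : ∀ i, φ ⟨w, hwP⟩ i = f i := fun i => hv ((hspec ⟨w, hwP⟩ i).symm.trans (hf i))
    refine ⟨φ ⟨w, hwP⟩, ⟨_, rfl⟩, fun l hl => ?_, ?_⟩
    · rw [e1]; exact h2 l hl
    · rw [e1]; exact h3
  have h2 : 3 ∣ Nat.card φ.ker := by
    have h3 : (⟨z, hz⟩ : P) ∈ φ.ker := by
      rw [MonoidHom.mem_ker]
      ext i
      rw [Perm.one_apply]
      exact congrArg Fin.val (hv ((hspec ⟨z, hz⟩ i).symm.trans (hzv i)))
    have h4 : orderOf (⟨z, hz⟩ : P) = 3 := by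
      apply orderOf_eq_prime
      · exact Subtype.ext hz3
      · exact fun h => hz1 (congrArg Subtype.val h)
    rw [← h4]
    exact Subgroup.orderOf_dvd_natCard _ h3
  have h3 : Nat.card P = Nat.card φ.ker * Nat.card φ.range := by
    rw [← Subgroup.index_ker, mul_comm]
    exact (Subgroup.index_mul_card _).symm
  rw [h3, pow_succ']
  exact mul_dvd_mul h2 h1

/-- the stabiliser of a point with an orbit of at most 27 points -/
theorem stab_dvd [Finite G] {P : Subgroup G} {m : ℕ} (hP : 3 ^ (m + 3) ∣ Nat.card P) {x : X} (S : Set X)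
    (hS : S.ncard ≤ 27) (hSf : S.Finite) (h : ∀ g ∈ P, ρ g x ∈ S) {C : Subgroup G} (hC : ∀ g, g ∈ C ↔ ρ g x = x) :
    3 ^ m ∣ Nat.card ↥(P ⊓ C) := by
  let _ : MulAction P X := MulAction.compHom X (ρ.comp P.subtype)
  have hsm : ∀ (g : P) (y : X), g • y = ρ (g : G) y := fun _ _ => rfl
  have h1 := MulAction.index_stabilizer P x
  have h2 : MulAction.orbit P x ⊆ S := by
    rintro _ ⟨g, rfl⟩
    exact h g g.2
  have h3 : (MulAction.stabilizer P x).index ≤ 27 := by
    rw [h1]
    exact (Set.ncard_le_ncard h2 hSf).trans hS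
  have h4 := (MulAction.stabilizer P x).card_mul_index
  have h5 : Nat.card ↥(P ⊓ C) = Nat.card ↥(MulAction.stabilizer P x) := by
    have e : MulAction.stabilizer P x = C.subgroupOf P := by
      ext g
      rw [MulAction.mem_stabilizer_iff, Subgroup.mem_subgroupOf, hC]
      exact Iff.rfl
    rw [e, inf_comm]
    exact Nat.card_congr (Subgroup.subgroupOfEquivOfLe inf_le_right |>.toEquiv.symm.trans
      (MulEquiv.subgroupCongr (Subgroup.inf_subgroupOf_right C P)).toEquiv)
  rw [h5]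
  have h6 : (MulAction.stabilizer P x).index ≠ 0 := Subgroup.index_ne_zero_of_finite
  have h7 : Nat.card ↥(MulAction.stabilizer P x) ≠ 0 := Nat.card_pos.ne'
  rw [← h4, Nat.prime_three.pow_dvd_iff_le_factorization (mul_ne_zero h7 h6), Nat.factorization_mul h7 h6,
    Finsupp.add_apply] at hP
  rw [Nat.prime_three.pow_dvd_iff_le_factorization h7]
  have h8 : (MulAction.stabilizer P x).index.factorization 3 < 4 := by
    by_contra hc
    have h9 := (Nat.prime_three.pow_dvd_iff_le_factorization h6).2 (not_lt.1 hc)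
    have h10 := Nat.le_of_dvd (Nat.pos_of_ne_zero h6) h9
    norm_num at h10
    omega
  omega

end Cfsg.Agent.H832.MF.Act
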