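import Cfsg.Agent.H832.MF.Dat

set_option autoImplicit false
set_option maxRecDepth 100000
set_option Elab.async false

/-! Kernel checks: the tables of the generators (helper832). -/

namespace Cfsg.Agent.H832.MF.ChkA

open Cfsg.Agent.H832.MF.Ev Cfsg.Agent.H832.MF.Dat
open Cfsg.Agent.Lib.PermNet Cfsg.Agent.Lib.PermNetPt Cfsg.Agent.Fischer.Fi24RepDef
open Cfsg.Agent.KFacts.FiTF.FixMask (pn)
open Cfsg.Spor.Fi24 (Gen)

theorem c0_0 : ckP (nw (sw 0) false) 0 270 pt (fun i => pt (tab 0 i)) = true := by decide +kernel
theorem c0_1 : ckP (nw (sw 0) false) 1 270 pt (fun i => pt (tab 0 i)) = true := by decide +kernel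
theorem c0_2 : ckP (nw (sw 0) false) 2 270 pt (fun i => pt (tab 0 i)) = true := by decide +kernel
theorem c0_3 : ckP (nw (sw 0) false) 3 270 pt (fun i => pt (tab 0 i)) = true := by decide +kernel
theorem c0_4 : ckP (nw (sw 0) false) 4 270 pt (fun i => pt (tab 0 i)) = true := by decide +kernel
theorem c0_5 : ckP (nw (sw 0) false) 5 270 pt (fun i => pt (tab 0 i)) = true := by decide +kernel
theorem c0_6 : ckP (nw (sw 0) false) 6 270 pt (fun i => pt (tab 0 i)) = true := by decide +kernel
theorem c0_7 : ckP (nw (sw 0) false) 7 270 pt (fun i => pt (tab 0 i)) = true := by decide +kernel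
theorem c0_8 : ckP (nw (sw 0) false) 8 270 pt (fun i => pt (tab 0 i)) = true := by decide +kernel
theorem c0_9 : ckP (nw (sw 0) false) 9 270 pt (fun i => pt (tab 0 i)) = true := by decide +kernel
theorem c0_10 : ckP (nw (sw 0) false) 10 270 pt (fun i => pt (tab 0 i)) = true := by decide +kernel
theorem c0_11 : ckP (nw (sw 0) false) 11 270 pt (fun i => pt (tab 0 i)) = true := by decide +kernel
theorem c0_12 : ckP (nw (sw 0) false) 12 270 pt (fun i => pt (tab 0 i)) = true := by decide +kernel
theorem c0_13 : ckP (nw (sw 0) false) 13 270 pt (fun i => pt (tab 0 i)) = true := by decide +kernel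
theorem c0_14 : ckP (nw (sw 0) false) 14 270 pt (fun i => pt (tab 0 i)) = true := by decide +kernel
theorem c0_15 : ckP (nw (sw 0) false) 15 270 pt (fun i => pt (tab 0 i)) = true := by decide +kernel
theorem c0_16 : ckP (nw (sw 0) false) 16 270 pt (fun i => pt (tab 0 i)) = true := by decide +kernel
theorem c0_17 : ckP (nw (sw 0) false) 17 270 pt (fun i => pt (tab 0 i)) = true := by decide +kernel
theorem c0_18 : ckP (nw (sw 0) false) 18 270 pt (fun i => pt (tab 0 i)) = true := by decide +kernel

theorem c0 : ∀ b < 19, ckP (nw (sw 0) false) b 270 pt (fun i => pt (tab 0 i)) = true := by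
  intro b hb
  interval_cases b
  · exact c0_0
  · exact c0_1
  · exact c0_2
  · exact c0_3
  · exact c0_4
  · exact c0_5
  · exact c0_6
  · exact c0_7
  · exact c0_8
  · exact c0_9
  · exact c0_10
  · exact c0_11
  · exact c0_12
  · exact c0_13
  · exact c0_14
  · exact c0_15
  · exact c0_16
  · exact c0_17
  · exact c0_18

theorem c2_0 : ckP (nw (sw 2) false) 0 270 pt (fun i => pt (tab 2 i)) = true := by decide +kernel
theorem c2_1 : ckP (nw (sw 2) false) 1 270 pt (fun i => pt (tab 2 i)) = true := by decide +kernel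
theorem c2_2 : ckP (nw (sw 2) false) 2 270 pt (fun i => pt (tab 2 i)) = true := by decide +kernel
theorem c2_3 : ckP (nw (sw 2) false) 3 270 pt (fun i => pt (tab 2 i)) = true := by decide +kernel
theorem c2_4 : ckP (nw (sw 2) false) 4 270 pt (fun i => pt (tab 2 i)) = true := by decide +kernel
theorem c2_5 : ckP (nw (sw 2) false) 5 270 pt (fun i => pt (tab 2 i)) = true := by decide +kernel
theorem c2_6 : ckP (nw (sw 2) false) 6 270 pt (fun i => pt (tab 2 i)) = true := by decide +kernel
theorem c2_7 : ckP (nw (sw 2) false) 7 270 pt (fun i => pt (tab 2 i)) = true := by decide +kernel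
theorem c2_8 : ckP (nw (sw 2) false) 8 270 pt (fun i => pt (tab 2 i)) = true := by decide +kernel
theorem c2_9 : ckP (nw (sw 2) false) 9 270 pt (fun i => pt (tab 2 i)) = true := by decide +kernel
theorem c2_10 : ckP (nw (sw 2) false) 10 270 pt (fun i => pt (tab 2 i)) = true := by decide +kernel
theorem c2_11 : ckP (nw (sw 2) false) 11 270 pt (fun i => pt (tab 2 i)) = true := by decide +kernel
theorem c2_12 : ckP (nw (sw 2) false) 12 270 pt (fun i => pt (tab 2 i)) = true := by decide +kernel
theorem c2_13 : ckP (nw (sw 2) false) 13 270 pt (fun i => pt (tab 2 i)) = true := by decide +kernel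
theorem c2_14 : ckP (nw (sw 2) false) 14 270 pt (fun i => pt (tab 2 i)) = true := by decide +kernel
theorem c2_15 : ckP (nw (sw 2) false) 15 270 pt (fun i => pt (tab 2 i)) = true := by decide +kernel
theorem c2_16 : ckP (nw (sw 2) false) 16 270 pt (fun i => pt (tab 2 i)) = true := by decide +kernel
theorem c2_17 : ckP (nw (sw 2) false) 17 270 pt (fun i => pt (tab 2 i)) = true := by decide +kernel
theorem c2_18 : ckP (nw (sw 2) false) 18 270 pt (fun i => pt (tab 2 i)) = true := by decide +kernel

theorem c2 : ∀ b < 19, ckP (nw (sw 2) false) b 270 pt (fun i => pt (tab 2 i)) = true := by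
  intro b hb
  interval_cases b
  · exact c2_0
  · exact c2_1
  · exact c2_2
  · exact c2_3
  · exact c2_4
  · exact c2_5
  · exact c2_6
  · exact c2_7
  · exact c2_8
  · exact c2_9
  · exact c2_10
  · exact c2_11
  · exact c2_12
  · exact c2_13
  · exact c2_14
  · exact c2_15
  · exact c2_16
  · exact c2_17
  · exact c2_18

theorem c3_0 : ckP (nw (sw 3) false) 0 270 pt (fun i => pt (tab 3 i)) = true := by decide +kernel
theorem c3_1 : ckP (nw (sw 3) false) 1 270 pt (fun i => pt (tab 3 i)) = true := by decide +kernel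
theorem c3_2 : ckP (nw (sw 3) false) 2 270 pt (fun i => pt (tab 3 i)) = true := by decide +kernel
theorem c3_3 : ckP (nw (sw 3) false) 3 270 pt (fun i => pt (tab 3 i)) = true := by decide +kernel
theorem c3_4 : ckP (nw (sw 3) false) 4 270 pt (fun i => pt (tab 3 i)) = true := by decide +kernel
theorem c3_5 : ckP (nw (sw 3) false) 5 270 pt (fun i => pt (tab 3 i)) = true := by decide +kernel
theorem c3_6 : ckP (nw (sw 3) false) 6 270 pt (fun i => pt (tab 3 i)) = true := by decide +kernel
theorem c3_7 : ckP (nw (sw 3) false) 7 270 pt (fun i => pt (tab 3 i)) = true := by decide +kernel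
theorem c3_8 : ckP (nw (sw 3) false) 8 270 pt (fun i => pt (tab 3 i)) = true := by decide +kernel
theorem c3_9 : ckP (nw (sw 3) false) 9 270 pt (fun i => pt (tab 3 i)) = true := by decide +kernel
theorem c3_10 : ckP (nw (sw 3) false) 10 270 pt (fun i => pt (tab 3 i)) = true := by decide +kernel
theorem c3_11 : ckP (nw (sw 3) false) 11 270 pt (fun i => pt (tab 3 i)) = true := by decide +kernel
theorem c3_12 : ckP (nw (sw 3) false) 12 270 pt (fun i => pt (tab 3 i)) = true := by decide +kernel
theorem c3_13 : ckP (nw (sw 3) false) 13 270 pt (fun i => pt (tab 3 i)) = true := by decide +kernel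
theorem c3_14 : ckP (nw (sw 3) false) 14 270 pt (fun i => pt (tab 3 i)) = true := by decide +kernel
theorem c3_15 : ckP (nw (sw 3) false) 15 270 pt (fun i => pt (tab 3 i)) = true := by decide +kernel
theorem c3_16 : ckP (nw (sw 3) false) 16 270 pt (fun i => pt (tab 3 i)) = true := by decide +kernel
theorem c3_17 : ckP (nw (sw 3) false) 17 270 pt (fun i => pt (tab 3 i)) = true := by decide +kernel
theorem c3_18 : ckP (nw (sw 3) false) 18 270 pt (fun i => pt (tab 3 i)) = true := by decide +kernel

theorem c3 : ∀ b < 19, ckP (nw (sw 3) false) b 270 pt (fun i => pt (tab 3 i)) = true := by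
  intro b hb
  interval_cases b
  · exact c3_0
  · exact c3_1
  · exact c3_2
  · exact c3_3
  · exact c3_4
  · exact c3_5
  · exact c3_6
  · exact c3_7
  · exact c3_8
  · exact c3_9
  · exact c3_10
  · exact c3_11
  · exact c3_12
  · exact c3_13
  · exact c3_14
  · exact c3_15
  · exact c3_16
  · exact c3_17
  · exact c3_18

theorem c4_0 : ckP (nw (sw 4) false) 0 270 pt (fun i => pt (tab 4 i)) = true := by decide +kernel
theorem c4_1 : ckP (nw (sw 4) false) 1 270 pt (fun i => pt (tab 4 i)) = true := by decide +kernel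
theorem c4_2 : ckP (nw (sw 4) false) 2 270 pt (fun i => pt (tab 4 i)) = true := by decide +kernel
theorem c4_3 : ckP (nw (sw 4) false) 3 270 pt (fun i => pt (tab 4 i)) = true := by decide +kernel
theorem c4_4 : ckP (nw (sw 4) false) 4 270 pt (fun i => pt (tab 4 i)) = true := by decide +kernel
theorem c4_5 : ckP (nw (sw 4) false) 5 270 pt (fun i => pt (tab 4 i)) = true := by decide +kernel
theorem c4_6 : ckP (nw (sw 4) false) 6 270 pt (fun i => pt (tab 4 i)) = true := by decide +kernel
theorem c4_7 : ckP (nw (sw 4) false) 7 270 pt (fun i => pt (tab 4 i)) = true := by decide +kernel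
theorem c4_8 : ckP (nw (sw 4) false) 8 270 pt (fun i => pt (tab 4 i)) = true := by decide +kernel
theorem c4_9 : ckP (nw (sw 4) false) 9 270 pt (fun i => pt (tab 4 i)) = true := by decide +kernel
theorem c4_10 : ckP (nw (sw 4) false) 10 270 pt (fun i => pt (tab 4 i)) = true := by decide +kernel
theorem c4_11 : ckP (nw (sw 4) false) 11 270 pt (fun i => pt (tab 4 i)) = true := by decide +kernel
theorem c4_12 : ckP (nw (sw 4) false) 12 270 pt (fun i => pt (tab 4 i)) = true := by decide +kernel
theorem c4_13 : ckP (nw (sw 4) false) 13 270 pt (fun i => pt (tab 4 i)) = true := by decide +kernel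
theorem c4_14 : ckP (nw (sw 4) false) 14 270 pt (fun i => pt (tab 4 i)) = true := by decide +kernel
theorem c4_15 : ckP (nw (sw 4) false) 15 270 pt (fun i => pt (tab 4 i)) = true := by decide +kernel
theorem c4_16 : ckP (nw (sw 4) false) 16 270 pt (fun i => pt (tab 4 i)) = true := by decide +kernel
theorem c4_17 : ckP (nw (sw 4) false) 17 270 pt (fun i => pt (tab 4 i)) = true := by decide +kernel
theorem c4_18 : ckP (nw (sw 4) false) 18 270 pt (fun i => pt (tab 4 i)) = true := by decide +kernel

theorem c4 : ∀ b < 19, ckP (nw (sw 4) false) b 270 pt (fun i => pt (tab 4 i)) = true := by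
  intro b hb
  interval_cases b
  · exact c4_0
  · exact c4_1
  · exact c4_2
  · exact c4_3
  · exact c4_4
  · exact c4_5
  · exact c4_6
  · exact c4_7
  · exact c4_8
  · exact c4_9
  · exact c4_10
  · exact c4_11
  · exact c4_12
  · exact c4_13
  · exact c4_14
  · exact c4_15
  · exact c4_16
  · exact c4_17
  · exact c4_18

theorem c5_0 : ckP (nw (sw 5) false) 0 270 pt (fun i => pt (tab 5 i)) = true := by decide +kernel
theorem c5_1 : ckP (nw (sw 5) false) 1 270 pt (fun i => pt (tab 5 i)) = true := by decide +kernel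
theorem c5_2 : ckP (nw (sw 5) false) 2 270 pt (fun i => pt (tab 5 i)) = true := by decide +kernel
theorem c5_3 : ckP (nw (sw 5) false) 3 270 pt (fun i => pt (tab 5 i)) = true := by decide +kernel
theorem c5_4 : ckP (nw (sw 5) false) 4 270 pt (fun i => pt (tab 5 i)) = true := by decide +kernel
theorem c5_5 : ckP (nw (sw 5) false) 5 270 pt (fun i => pt (tab 5 i)) = true := by decide +kernel
theorem c5_6 : ckP (nw (sw 5) false) 6 270 pt (fun i => pt (tab 5 i)) = true := by decide +kernel
theorem c5_7 : ckP (nw (sw 5) false) 7 270 pt (fun i => pt (tab 5 i)) = true := by decide +kernel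
theorem c5_8 : ckP (nw (sw 5) false) 8 270 pt (fun i => pt (tab 5 i)) = true := by decide +kernel
theorem c5_9 : ckP (nw (sw 5) false) 9 270 pt (fun i => pt (tab 5 i)) = true := by decide +kernel
theorem c5_10 : ckP (nw (sw 5) false) 10 270 pt (fun i => pt (tab 5 i)) = true := by decide +kernel
theorem c5_11 : ckP (nw (sw 5) false) 11 270 pt (fun i => pt (tab 5 i)) = true := by decide +kernel
theorem c5_12 : ckP (nw (sw 5) false) 12 270 pt (fun i => pt (tab 5 i)) = true := by decide +kernel
theorem c5_13 : ckP (nw (sw 5) false) 13 270 pt (fun i => pt (tab 5 i)) = true := by decide +kernel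
theorem c5_14 : ckP (nw (sw 5) false) 14 270 pt (fun i => pt (tab 5 i)) = true := by decide +kernel
theorem c5_15 : ckP (nw (sw 5) false) 15 270 pt (fun i => pt (tab 5 i)) = true := by decide +kernel
theorem c5_16 : ckP (nw (sw 5) false) 16 270 pt (fun i => pt (tab 5 i)) = true := by decide +kernel
theorem c5_17 : ckP (nw (sw 5) false) 17 270 pt (fun i => pt (tab 5 i)) = true := by decide +kernel
theorem c5_18 : ckP (nw (sw 5) false) 18 270 pt (fun i => pt (tab 5 i)) = true := by decide +kernel

theorem c5 : ∀ b < 19, ckP (nw (sw 5) false) b 270 pt (fun i => pt (tab 5 i)) = true := by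
  intro b hb
  interval_cases b
  · exact c5_0
  · exact c5_1
  · exact c5_2
  · exact c5_3
  · exact c5_4
  · exact c5_5
  · exact c5_6
  · exact c5_7
  · exact c5_8
  · exact c5_9
  · exact c5_10
  · exact c5_11
  · exact c5_12
  · exact c5_13
  · exact c5_14
  · exact c5_15
  · exact c5_16
  · exact c5_17
  · exact c5_18

end Cfsg.Agent.H832.MF.ChkA
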