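import Cfsg.Agent.H832.MF.Dat

set_option autoImplicit false
set_option maxRecDepth 100000
set_option Elab.async false

/-! Kernel checks: the tables of the generators (helper832). -/

namespace Cfsg.Agent.H832.MF.ChkB

open Cfsg.Agent.H832.MF.Ev Cfsg.Agent.H832.MF.Dat
open Cfsg.Agent.Lib.PermNet Cfsg.Agent.Lib.PermNetPt Cfsg.Agent.Fischer.Fi24RepDef
open Cfsg.Agent.KFacts.FiTF.FixMask (pn)
open Cfsg.Spor.Fi24 (Gen)

theorem c1_0 : ckP (nw (sw 1) false) 0 270 pt (fun i => pt (tab 1 i)) = true := by decide +kernel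
theorem c1_1 : ckP (nw (sw 1) false) 1 270 pt (fun i => pt (tab 1 i)) = true := by decide +kernel
theorem c1_2 : ckP (nw (sw 1) false) 2 270 pt (fun i => pt (tab 1 i)) = true := by decide +kernel
theorem c1_3 : ckP (nw (sw 1) false) 3 270 pt (fun i => pt (tab 1 i)) = true := by decide +kernel
theorem c1_4 : ckP (nw (sw 1) false) 4 270 pt (fun i => pt (tab 1 i)) = true := by decide +kernel
theorem c1_5 : ckP (nw (sw 1) false) 5 270 pt (fun i => pt (tab 1 i)) = true := by decide +kernel
theorem c1_6 : ckP (nw (sw 1) false) 6 270 pt (fun i => pt (tab 1 i)) = true := by decide +kernel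
theorem c1_7 : ckP (nw (sw 1) false) 7 270 pt (fun i => pt (tab 1 i)) = true := by decide +kernel
theorem c1_8 : ckP (nw (sw 1) false) 8 270 pt (fun i => pt (tab 1 i)) = true := by decide +kernel
theorem c1_9 : ckP (nw (sw 1) false) 9 270 pt (fun i => pt (tab 1 i)) = true := by decide +kernel
theorem c1_10 : ckP (nw (sw 1) false) 10 270 pt (fun i => pt (tab 1 i)) = true := by decide +kernel
theorem c1_11 : ckP (nw (sw 1) false) 11 270 pt (fun i => pt (tab 1 i)) = true := by decide +kernel
theorem c1_12 : ckP (nw (sw 1) false) 12 270 pt (fun i => pt (tab 1 i)) = true := by decide +kernel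
theorem c1_13 : ckP (nw (sw 1) false) 13 270 pt (fun i => pt (tab 1 i)) = true := by decide +kernel
theorem c1_14 : ckP (nw (sw 1) false) 14 270 pt (fun i => pt (tab 1 i)) = true := by decide +kernel
theorem c1_15 : ckP (nw (sw 1) false) 15 270 pt (fun i => pt (tab 1 i)) = true := by decide +kernel
theorem c1_16 : ckP (nw (sw 1) false) 16 270 pt (fun i => pt (tab 1 i)) = true := by decide +kernel
theorem c1_17 : ckP (nw (sw 1) false) 17 270 pt (fun i => pt (tab 1 i)) = true := by decide +kernel
theorem c1_18 : ckP (nw (sw 1) false) 18 270 pt (fun i => pt (tab 1 i)) = true := by decide +kernel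

theorem c1 : ∀ b < 19, ckP (nw (sw 1) false) b 270 pt (fun i => pt (tab 1 i)) = true := by
  intro b hb
  interval_cases b
  · exact c1_0
  · exact c1_1
  · exact c1_2
  · exact c1_3
  · exact c1_4
  · exact c1_5
  · exact c1_6
  · exact c1_7
  · exact c1_8
  · exact c1_9
  · exact c1_10
  · exact c1_11
  · exact c1_12
  · exact c1_13
  · exact c1_14
  · exact c1_15
  · exact c1_16
  · exact c1_17
  · exact c1_18

end Cfsg.Agent.H832.MF.ChkB
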