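import Cfsg.Agent.H832.MF.Dat

set_option autoImplicit false
set_option maxRecDepth 100000
set_option Elab.async false

/-! Kernel checks: small facts (helper832). -/

namespace Cfsg.Agent.H832.MF.ChkC

open Cfsg.Agent.H832.MF.Ev Cfsg.Agent.H832.MF.Dat
open Cfsg.Agent.Lib.PermNet Cfsg.Agent.Lib.PermNetPt Cfsg.Agent.Fischer.Fi24RepDef
open Cfsg.Agent.KFacts.FiTF.FixMask (pn)
open Cfsg.Spor.Fi24 (Gen)

theorem tab_lt : ((List.range 6).all fun k => (List.range 270).all fun i => Nat.blt (tab k i) 270) = true := by
  decide +kernel

theorem pt_inj : ((List.range 270).all fun i => (List.range i).all fun j => !(Nat.beq (pt i) (pt j))) = true := by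
  decide +kernel

theorem iso : ((List.range 6).all fun m => (List.range 270).all fun i => (List.range 6).all fun k =>
    Nat.beq ((ad (tab m i) + ad (rd (ad i % 3 ^ k))) % 3 ^ (k + 1))
      ((ad i + ad (tab m (rd (ad i % 3 ^ k)))) % 3 ^ (k + 1))) = true := by
  decide +kernel

theorem rd_lt : ((List.range 270).all fun i => (List.range 6).all fun k => Nat.blt (rd (ad i % 3 ^ k)) 270) = true := by
  decide +kernel

/-- evaluation of a word in the generators by the tables -/
def ev (w : List ℕ) (i : ℕ) : ℕ := w.foldr tab i

theorem chain_ok : ((List.range 15).all fun j =>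
    (List.range j).all (fun l => Nat.beq
      (ad (ev (chain.getD j (0, 0, [])).2.2 (chain.getD l (0, 0, [])).1) % 3 ^ (chain.getD l (0, 0, [])).2.1)
      (ad (chain.getD l (0, 0, [])).1 % 3 ^ (chain.getD l (0, 0, [])).2.1)) &&
    !(Nat.beq (ad (ev (chain.getD j (0, 0, [])).2.2 (chain.getD j (0, 0, [])).1) % 3 ^ (chain.getD j (0, 0, [])).2.1)
      (ad (chain.getD j (0, 0, [])).1 % 3 ^ (chain.getD j (0, 0, [])).2.1))) = true := by
  decide +kernel

theorem chain_lt : (chain.all fun a => Nat.blt a.1 270 && a.2.2.all fun k => Nat.blt k 6) = true := by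
  decide +kernel

theorem chain_length : chain.length = 15 := rfl

/-- the commutator of the generators 4 and 5 acts trivially -/
theorem z_fix : ((List.range 270).all fun i => Nat.beq (tab 4 (tab 5 i)) (tab 5 (tab 4 i))) = true := by
  decide +kernel

theorem z_move1 : chkPt (nw (sw 4 ++ sw 5) false) 2 303876 = true := by decide +kernel

theorem z_move2 : chkPt (nw (sw 5 ++ sw 4) false) 2 265987 = true := by decide +kernel

theorem x_img : ((List.range 27).all fun j => chkPt (nw xw false) (bt j) (pt j)) = true := by
  decide +kernel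

theorem meet : ((List.range 27).all fun i => (List.range 27).all fun j =>
    !(Nat.beq (pt i) (bt j)) || (Nat.beq i 0 && Nat.beq j 0)) = true := by
  decide +kernel

theorem isPt : (UL.all fun a => chkPt (nw a.1 false) (pn a.2.1) a.2.2) = true := by
  decide +kernel

theorem UL_pt : ((List.range 27).all fun i => Nat.beq (UL.getD i ([], .l, 0)).2.2 (pt i)) = true := by
  decide +kernel

theorem UL_bt : ((List.range 26).all fun i => Nat.beq (UL.getD (27 + i) ([], .l, 0)).2.2 (bt (i + 1))) = true := by
  decide +kernel

theorem UL_length : UL.length = 64 := by decide +kernel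

/-- the networks of the transposition -/
noncomputable def uw (k : ℕ) : List Net :=
  nw ((UL.getD k ([], .l, 0)).1 ++ (UL.getD k ([], .l, 0)).2.1 :: (UL.getD k ([], .l, 0)).1.reverse) false

/-- check of the steps -/
noncomputable def okS : List ℕ → List (ℕ × ℕ × ℕ) → Bool
  | _, [] => true
  | K, (k, y, z) :: s => K.any (Nat.beq (UL.getD k ([], .l, 0)).2.2) && (K.any (Nat.beq y) && (Nat.blt k 64 &&
      (chkPt (uw k) y z && okS (z :: K) s)))

/-- the known points at the end -/
def endK : List ℕ → List (ℕ × ℕ × ℕ) → List ℕ
  | K, [] => K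
  | K, (_, _, z) :: s => endK (z :: K) s

def startK : List ℕ := (List.range 27).map pt ++ (List.range 27).map bt

theorem steps_ok : okS startK steps = true := by decide +kernel

theorem end_ok : ([Gen.l, .k, .a, .b, .c, .d, .e, .f, .g, .j, .h, .i].all fun x =>
    (endK startK steps).any (Nat.beq (pn x))) = true := by decide +kernel

end Cfsg.Agent.H832.MF.ChkC
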