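import Cfsg.Agent.H832.MF.Dat

set_option autoImplicit false
set_option maxRecDepth 100000
set_option Elab.async false

/-! Kernel checks: the commuting relation between the 27 points and their conjugates, rows 0 - 13 (helper832). -/

namespace Cfsg.Agent.H832.MF.ChkD

open Cfsg.Agent.H832.MF.Ev Cfsg.Agent.H832.MF.Dat
open Cfsg.Agent.Lib.PermNet Cfsg.Agent.Lib.PermNetPt Cfsg.Agent.Fischer.Fi24RepDef
open Cfsg.Agent.KFacts.FiTF.FixMask (pn)
open Cfsg.Spor.Fi24 (Gen)

/-- the networks of the transposition `i` -/
noncomputable def vw (k : ℕ) : List Net :=
  nw ((UL.getD k ([], .l, 0)).1 ++ (UL.getD k ([], .l, 0)).2.1 :: (UL.getD k ([], .l, 0)).1.reverse) false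

/-- row `i` of the relation -/
noncomputable def row (i : ℕ) : Bool := (List.range 27).all fun j => eqB (Nat.beq (winv (vw i) (bt j)) (bt j)) (tb adjN (27 * i + j))

theorem r0 : row 0 = true := by decide +kernel
theorem r1 : row 1 = true := by decide +kernel
theorem r2 : row 2 = true := by decide +kernel
theorem r3 : row 3 = true := by decide +kernel
theorem r4 : row 4 = true := by decide +kernel
theorem r5 : row 5 = true := by decide +kernel
theorem r6 : row 6 = true := by decide +kernel
theorem r7 : row 7 = true := by decide +kernel
theorem r8 : row 8 = true := by decide +kernel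
theorem r9 : row 9 = true := by decide +kernel
theorem r10 : row 10 = true := by decide +kernel
theorem r11 : row 11 = true := by decide +kernel
theorem r12 : row 12 = true := by decide +kernel
theorem r13 : row 13 = true := by decide +kernel

end Cfsg.Agent.H832.MF.ChkD
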