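import Cfsg.Agent.H832.MF.ChkD

set_option autoImplicit false
set_option maxRecDepth 100000
set_option Elab.async false

/-! Kernel checks: the commuting relation between the 27 points and their conjugates, rows 14 - 26 (helper832). -/

namespace Cfsg.Agent.H832.MF.ChkE

open Cfsg.Agent.H832.MF.Ev Cfsg.Agent.H832.MF.Dat
open Cfsg.Agent.Lib.PermNet Cfsg.Agent.Lib.PermNetPt Cfsg.Agent.Fischer.Fi24RepDef
open Cfsg.Agent.KFacts.FiTF.FixMask (pn)
open Cfsg.Spor.Fi24 (Gen)
open Cfsg.Agent.H832.MF.ChkD

theorem r14 : row 14 = true := by decide +kernel
theorem r15 : row 15 = true := by decide +kernel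
theorem r16 : row 16 = true := by decide +kernel
theorem r17 : row 17 = true := by decide +kernel
theorem r18 : row 18 = true := by decide +kernel
theorem r19 : row 19 = true := by decide +kernel
theorem r20 : row 20 = true := by decide +kernel
theorem r21 : row 21 = true := by decide +kernel
theorem r22 : row 22 = true := by decide +kernel
theorem r23 : row 23 = true := by decide +kernel
theorem r24 : row 24 = true := by decide +kernel
theorem r25 : row 25 = true := by decide +kernel
theorem r26 : row 26 = true := by decide +kernel

theorem rows (i : ℕ) (hi : i < 27) : row i = true := by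
  interval_cases i
  · exact r0
  · exact r1
  · exact r2
  · exact r3
  · exact r4
  · exact r5
  · exact r6
  · exact r7
  · exact r8
  · exact r9
  · exact r10
  · exact r11
  · exact r12
  · exact r13
  · exact r14
  · exact r15
  · exact r16
  · exact r17
  · exact r18
  · exact r19
  · exact r20
  · exact r21
  · exact r22
  · exact r23
  · exact r24
  · exact r25
  · exact r26

end Cfsg.Agent.H832.MF.ChkE
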