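import Cfsg.Agent.KFacts.FiTF.FixMask

set_option autoImplicit false

/-!
# Kernel evaluation of words of `Fi24` on lists of points (helper832)

`ckP w b n f g` : the bit `b` of the image under `w` of the point `f i` is the bit `b` of `g i` for all `i < n`.
-/

namespace Cfsg.Agent.H832.MF.Ev

open Cfsg Cfsg.Agent.Lib.PermNet Cfsg.Agent.Lib.PermNetPt Cfsg.Agent.Fischer.Fi24RepDef Cfsg.Agent.Fischer.Fi24Rep
open Cfsg.Agent.KFacts.FiTF.Pts Cfsg.Agent.KFacts.FiTF.FixMask
open Cfsg.Agent.KFacts.FiTF.Defs (tr)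
open Cfsg.Spor (Fi24)
open Cfsg.Spor.Fi24 (Gen)
open Cfsg.Agent.Fischer.Fi24Spider (word_append word_cons word_nil)

/-- entry `i` of the table `N` with entries of `w` bits -/
def lk (w N i : ℕ) : ℕ := (N >>> (w * i)) % 2 ^ w

/-- equality of booleans -/
def eqB (x y : Bool) : Bool := Bool.rec (Bool.rec true false y) y x

theorem eqB_spec {x y : Bool} (h : eqB x y = true) : x = y := by
  cases x <;> cases y <;> first | rfl | exact absurd h (by decide)

/-- bit `b` of the images of the points `f i`, `i < n`, under `w` -/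
noncomputable def ckP (w : List Net) (b n : ℕ) (f g : ℕ → ℕ) : Bool :=
  seqB (appWord w (plane 19 b)) fun X => (List.range n).all fun i => eqB (tbc X (f i)) (tb (g i) b)

theorem ckP_spec {w : List Net} {b n : ℕ} {f g : ℕ → ℕ} (h : ckP w b n f g = true) {i : ℕ} (hi : i < n) :
    (appWord w (plane 19 b)).testBit (f i) = (g i).testBit b := by
  unfold ckP at h
  rw [seqB_eq] at h
  have h1 := eqB_spec (List.all_eq_true.1 h i (List.mem_range.2 hi))
  rwa [tbc_eq, tb_eq] at h1

theorem img {w : List Net} (hw : WOk 327680 w) {n : ℕ} {f g : ℕ → ℕ} (hf : ∀ i < n, f i < 2 ^ 19)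
    (hg : ∀ i < n, g i < 2 ^ 19) (h : ∀ b < 19, ckP w b n f g = true) {i : ℕ} (hi : i < n) :
    wperm w (f i) = g i := by
  have hw' : WOk (2 ^ 19) w := Cfsg.Agent.Fischer.Fi24RepLib.WOk.mono (by norm_num) hw
  have hlt : wperm w (f i) < 2 ^ 19 := wperm_lt hw' (hf i hi)
  apply Nat.eq_of_testBit_eq
  intro b
  rcases Nat.lt_or_ge b 19 with hb | hb
  · rw [← ckP_spec (h b hb) hi, testBit_appWord hw, testBit_plane 19 b _ hlt hb]
  · rw [Nat.testBit_lt_two_pow (hlt.trans_le (Nat.pow_le_pow_right (by norm_num) hb)),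
      Nat.testBit_lt_two_pow ((hg i hi).trans_le (Nat.pow_le_pow_right (by norm_num) hb))]

theorem lk_lt (w N i : ℕ) : lk w N i < 2 ^ w := Nat.mod_lt _ (Nat.two_pow_pos w)

/-- a word with `19` plane checks -/
theorem rho_img {u : List Gen} {n : ℕ} {f g : ℕ → ℕ} (hf : ∀ i < n, f i < 2 ^ 19)
    (hg : ∀ i < n, g i < 2 ^ 19) (h : ∀ b < 19, ckP (nw u false) b n f g = true) {i : ℕ} (hi : i < n) :
    rho (word u) (f i) = g i := by
  rw [rho_word]
  exact img (wok u false) hf hg h hi

end Cfsg.Agent.H832.MF.Ev
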