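import Cfsg.Agent.H832.MF.Syl
import Cfsg.Agent.H832.MF.ChkE

set_option autoImplicit false
set_option maxRecDepth 100000

/-!
# `P ∩ P ^ x = 1` (helper832)

`x = xw` commutes with `l`. An element of the intersection stabilises the 27 points `pt i` and the 27 points `bt j`, hence
their only common point; the colour refinement of the commuting relation separates all of them, and they generate.
-/

namespace Cfsg.Agent.H832.MF.Rig

open Cfsg Cfsg.Agent.H832.MF.Ev Cfsg.Agent.H832.MF.Dat Cfsg.Agent.H832.MF.Abs Cfsg.Agent.H832.MF.Act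
open Cfsg.Agent.H832.MF.Syl
open Cfsg.Agent.Lib.PermNet Cfsg.Agent.Lib.PermNetPt Cfsg.Agent.Fischer.Fi24RepDef Cfsg.Agent.Fischer.Fi24Rep
open Cfsg.Agent.KFacts.FiTF.Pts Cfsg.Agent.KFacts.FiTF.FixMask
open Cfsg.Agent.KFacts.FiTF.Defs (tr)
open Cfsg.Agent.R08.FiTwentyFour (L)
open Cfsg.Spor (Fi24)
open Cfsg.Spor.Fi24 (Gen)
open Cfsg.Agent.Fischer.Fi24Spider (word_append word_cons word_nil)

/-- the conjugating element -/
def x : Fi24 := word xw

theorem rho_x {j : ℕ} (hj : j < 27) : rho x (bt j) = pt j := rho_of_chkPt (all_range ChkC.x_img hj)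

theorem pt_inj {i j : ℕ} (hi : i < 27) (hj : j < 27) (h : pt i = pt j) : i = j := by
  have h1 := v_inj (a₁ := ⟨i, by omega⟩) (a₂ := ⟨j, by omega⟩) h
  exact congrArg Fin.val h1

theorem bt_inj {i j : ℕ} (hi : i < 27) (hj : j < 27) (h : bt i = bt j) : i = j := by
  apply pt_inj hi hj
  rw [← rho_x hi, ← rho_x hj, h]

theorem meet {i j : ℕ} (hi : i < 27) (hj : j < 27) (h : pt i = bt j) : i = 0 ∧ j = 0 := by
  have h1 := all_range (all_range ChkC.meet hi) hj
  rw [h, Nat.beq_refl] at h1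
  simp only [Bool.not_true, Bool.false_or, Bool.and_eq_true] at h1
  exact ⟨Nat.eq_of_beq_eq_true h1.1, Nat.eq_of_beq_eq_true h1.2⟩

theorem bt_zero : bt 0 = pt 0 := by decide +kernel

/-- the relation -/
noncomputable def M (i j : ℕ) : Bool := tb adjN (27 * i + j)

theorem M_iff {i j : ℕ} (hi : i < 27) (hj : j < 27) : M i j = true ↔ rho (ud i) (bt j) = bt j := by
  have h1 := ChkE.rows i hi
  have h2 := eqB_spec (all_range h1 hj)
  unfold M
  rw [← h2]
  have h3 : winv (ChkD.vw i) (bt j) = (rho (ud i))⁻¹ (bt j) := by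
    have h4 : rho (ud i) = wperm (ChkD.vw i) := rho_word _
    rw [h4]
    exact winv_eq (wok _ false) _
  rw [h3]
  constructor
  · intro h
    have h5 := Nat.eq_of_beq_eq_true h
    rw [Equiv.Perm.inv_eq_iff_eq] at h5
    exact h5.symm
  · intro h
    have h5 : (rho (ud i))⁻¹ (bt j) = bt j := by rw [Equiv.Perm.inv_eq_iff_eq]; exact h.symm
    rw [h5, Nat.beq_refl]

/-- the permutation of the 27 points -/
theorem exists_perm {g : Fi24} (hg : g ∈ P) : ∃ s : Equiv.Perm (Fin 27),
    (∀ i : Fin 27, rho g (pt i) = pt (s i)) ∧ ∀ i j : Fin 27, ∀ k : ℕ, (3 : ℤ) ^ k ∣ 3 * (i : ℤ) - 3 * j →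
      (3 : ℤ) ^ (k + 1) ∣ (3 * (s i : ℤ) - 3 * (s j : ℤ)) - (3 * i - 3 * j) := by
  obtain ⟨σ, hσ, h⟩ := mem_Stb.1 (P_le hg)
  have hI := mem_isoSub.1 hσ
  have ha : ∀ i : Fin 270, (i : ℕ) < 27 → a i = 3 * i := fun i hi => by unfold a ad; rw [if_pos hi]
  have hlt : ∀ i : Fin 270, (i : ℕ) < 27 → (σ i : ℕ) < 27 := by
    intro i hi
    by_contra hcon
    -- a leaf `j` not below 27 with image ...
    have key : ∀ j : Fin 270, (3 : ℤ) ∣ ((a (σ i) : ℤ) - a (σ j)) - (a i - a j) := by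
      intro j
      have := hI i j 0 (by rw [pow_zero]; exact one_dvd _)
      simpa using this
    have h1 : a (σ i) = 3 * ((σ i : ℕ) - 27) + 1 := by unfold a ad; rw [if_neg hcon]
    have h2 := ha i hi
    -- take `j = 27`
    have h3 := key ⟨27, by norm_num⟩
    have h4 : a ⟨27, by norm_num⟩ = 1 := by decide
    have h5 : a (σ ⟨27, by norm_num⟩) % 3 = 0 ∨ a (σ ⟨27, by norm_num⟩) % 3 = 1 := by
      unfold a ad
      split_ifs <;> omega
    rw [h1, h2, h4] at h3
    omega
  have hinj : Function.Injective (fun i : Fin 27 => (⟨σ ⟨i, by omega⟩, hlt _ i.2⟩ : Fin 27)) := by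
    intro i j hij
    have h1 := congrArg Fin.val hij
    have h2 := σ.injective (Fin.ext h1)
    have h3 := congrArg Fin.val h2
    exact Fin.ext h3
  refine ⟨Equiv.ofBijective _ hinj.bijective_of_finite, fun i => h ⟨i, by omega⟩, fun i j k hk => ?_⟩
  have ei := ha ⟨i, by omega⟩ i.2
  have ej := ha ⟨j, by omega⟩ j.2
  have h1 := hI ⟨i, by omega⟩ ⟨j, by omega⟩ k (by
    rw [ei, ej]
    push_cast
    exact hk)
  rw [ei, ej, ha _ (hlt ⟨i, by omega⟩ i.2), ha _ (hlt ⟨j, by omega⟩ j.2)] at h1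
  push_cast at h1
  exact h1

/-- the initial colour -/
def c0 (i : ℕ) : ℕ := if i % 3 ≠ 0 then i % 3 else if i % 9 ≠ 0 then 10 + i % 9 else 20 + i

theorem c0_inv {s : Equiv.Perm (Fin 27)} (h : ∀ i j : Fin 27, ∀ k : ℕ, (3 : ℤ) ^ k ∣ 3 * (i : ℤ) - 3 * j →
      (3 : ℤ) ^ (k + 1) ∣ (3 * (s i : ℤ) - 3 * (s j : ℤ)) - (3 * i - 3 * j)) (h0 : s 0 = 0) (i : Fin 27) :
    c0 (s i) = c0 i := by
  have h1 := h i 0 1
  have h2 := h i 0 2
  have h3 := h i 0 3
  rw [h0] at h1 h2 h3
  norm_num at h1 h2 h3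
  have hi := i.2
  have hs := (s i).2
  unfold c0
  by_cases e1 : (i : ℕ) % 3 = 0
  · by_cases e2 : (i : ℕ) % 9 = 0
    · have := h3 (by omega)
      have := h2 (by omega)
      split_ifs <;> omega
    · have := h2 (by omega)
      split_ifs <;> omega
  · split_ifs <;> omega

/-- the colours of the two sets after `r` rounds -/
noncomputable def cols : ℕ → List ℕ × List ℕ
  | 0 => ((List.range 27).map c0, (List.range 27).map fun i => c0 i + 1000)
  | r + 1 => (nxt 27 M (cols r).1 (cols r).2, nxt 27 (fun i j => M j i) (cols r).2 (cols r).1)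

theorem cols_inv {s s' : Equiv.Perm (Fin 27)} (hM : ∀ i j : Fin 27, M (s i) (s' j) = M i j)
    (h : ∀ i : Fin 27, c0 (s i) = c0 i) (h' : ∀ i : Fin 27, c0 (s' i) = c0 i) (r : ℕ) :
    (∀ i : Fin 27, (cols r).1.getD (s i) 0 = (cols r).1.getD i 0) ∧
      ∀ i : Fin 27, (cols r).2.getD (s' i) 0 = (cols r).2.getD i 0 := by
  induction r with
  | zero =>
    have e1 : ∀ i : Fin 27, (cols 0).1.getD i 0 = c0 i := by
      intro i
      unfold cols
      rw [List.getD_eq_getElem _ _ (by simp), List.getElem_map, List.getElem_range]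
    have e2 : ∀ i : Fin 27, (cols 0).2.getD i 0 = c0 i + 1000 := by
      intro i
      unfold cols
      rw [List.getD_eq_getElem _ _ (by simp), List.getElem_map, List.getElem_range]
    exact ⟨fun i => by rw [e1, e1, h], fun i => by rw [e2, e2, h']⟩
  | succ r ih =>
    refine ⟨fun i => nxt_inv s s' hM ih.1 ih.2 i, fun i => ?_⟩
    exact nxt_inv (M := fun i j => M j i) s' s (fun i j => hM j i) ih.2 ih.1 i

/-- all the colours are different -/
noncomputable def dist (l : List ℕ) : Bool :=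
  (List.range 27).all fun i => (List.range i).all fun j => !(Nat.beq (l.getD i 0) (l.getD j 0))

theorem dist3 : (dist (cols 3).1 && dist (cols 3).2) = true := by decide +kernel

theorem eq_of_dist {l : List ℕ} (h : dist l = true) {i j : Fin 27} (hij : l.getD i 0 = l.getD j 0) : i = j := by
  have key : ∀ i < 27, ∀ j < i, l.getD i 0 ≠ l.getD j 0 := by
    intro i hi j hj e
    have h1 := all_range (all_range h hi) hj
    rw [e, Nat.beq_refl] at h1
    exact absurd h1 (by decide)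
  apply Fin.ext
  rcases lt_trichotomy (i : ℕ) j with h | h | h
  · exact absurd hij.symm (key j j.2 i h)
  · exact h
  · exact absurd hij (key i i.2 j h)

/-- an element of the intersection fixes the 54 points -/
theorem fix_all {g : Fi24} (hg : g ∈ P) (hg' : x * g * x⁻¹ ∈ P) :
    (∀ i < 27, rho g (pt i) = pt i) ∧ ∀ i < 27, rho g (bt i) = bt i := by
  obtain ⟨s, hs, hI⟩ := exists_perm hg
  obtain ⟨s', hs', hI'⟩ := exists_perm hg'
  have hb : ∀ j : Fin 27, rho g (bt j) = bt (s' j) := by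
    intro j
    apply (rho x).injective
    rw [rho_x (s' j).2, ← hs' j, map_mul, map_mul, map_inv, Equiv.Perm.mul_apply, Equiv.Perm.mul_apply, ← rho_x j.2,
      show (rho x)⁻¹ (rho x (bt j)) = bt j from (rho x).symm_apply_apply _]
  have h0 : (s 0 : ℕ) = 0 ∧ (s' 0 : ℕ) = 0 := by
    apply meet (s 0).2 (s' 0).2
    rw [← hs, ← hb]
    exact congrArg (rho g) bt_zero.symm
  have h1 : s 0 = 0 := Fin.ext h0.1
  have h1' : s' 0 = 0 := Fin.ext h0.2
  have hM : ∀ i j : Fin 27, M (s i) (s' j) = M i j := by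
    intro i j
    have key : rho (ud (s i)) (bt (s' j)) = bt (s' j) ↔ rho (ud i) (bt j) = bt j := by
      have e1 : g * ud i * g⁻¹ = ud (s i) := by
        refine IsPt.conj_eq (ud_pt (show (i : ℕ) < 64 by omega)) (ud_pt (show (s i : ℕ) < 64 by omega)) ?_
        rw [up_pt i.2, up_pt (s i).2, hs]
      rw [← e1, ← hb, map_mul, map_mul, map_inv, Equiv.Perm.mul_apply, Equiv.Perm.mul_apply,
        show (rho g)⁻¹ (rho g (bt j)) = bt j from (rho g).symm_apply_apply _]
      exact (rho g).injective.eq_iff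
    rw [← M_iff (s i).2 (s' j).2, ← M_iff i.2 j.2] at key
    cases h2 : M (s i) (s' j) <;> cases h3 : M i j <;> rw [h2, h3] at key <;> first | rfl | exact absurd key (by decide)
  have h2 := cols_inv hM (c0_inv hI h1) (c0_inv hI' h1') 3
  have h3 := dist3
  rw [Bool.and_eq_true] at h3
  constructor
  · intro i hi
    have h4 := eq_of_dist h3.1 (h2.1 ⟨i, hi⟩)
    have h5 := hs ⟨i, hi⟩
    rw [h4] at h5
    exact h5
  · intro i hi
    have h4 := eq_of_dist h3.2 (h2.2 ⟨i, hi⟩)
    have h5 := hb ⟨i, hi⟩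
    rw [h4] at h5
    exact h5

/-! ### The points generate -/

theorem steps_fix {g : Fi24} (s : List (ℕ × ℕ × ℕ)) {K : List ℕ} (hK : ∀ p ∈ K, rho g p = p)
    (h : ChkC.okS K s = true) : ∀ p ∈ ChkC.endK K s, rho g p = p := by
  induction s generalizing K with
  | nil => exact hK
  | cons a s ih =>
    obtain ⟨k, y, w⟩ := a
    unfold ChkC.okS at h
    simp only [Bool.and_eq_true] at h
    obtain ⟨h1, h2, h3, h4, h5⟩ := h
    unfold ChkC.endK
    refine ih (fun p hp => ?_) h5
    rcases List.mem_cons.1 hp with rfl | hp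
    · have hk : k < 64 := Nat.le_of_ble_eq_true h3
      obtain ⟨p1, hp1, e1⟩ := List.any_eq_true.1 h1
      obtain ⟨p2, hp2, e2⟩ := List.any_eq_true.1 h2
      have e1' : up k = p1 := Nat.eq_of_beq_eq_true e1
      have e2' : y = p2 := Nat.eq_of_beq_eq_true e2
      have h6 : rho g (up k) = up k := by rw [e1']; exact hK p1 hp1
      have h7 : rho g y = y := by rw [e2']; exact hK p2 hp2
      have h8 : g * ud k = ud k * g := ((ud_pt hk).comm_iff g).2 h6
      have h9 : rho (ud k) y = p := by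
        have h10 : rho (ud k) = wperm (ChkC.uw k) := rho_word _
        rw [h10]
        exact chkPt_spec (wok _ false) h4
      rw [← h9, ← Equiv.Perm.mul_apply, ← map_mul, h8, map_mul, Equiv.Perm.mul_apply, h7]
    · exact hK p hp

/-- **`P ∩ P ^ x = 1`** -/
theorem eq_one {g : Fi24} (hg : g ∈ P) (hg' : x * g * x⁻¹ ∈ P) : g = 1 := by
  obtain ⟨h1, h2⟩ := fix_all hg hg'
  have hK : ∀ p ∈ ChkC.startK, rho g p = p := by
    intro p hp
    rcases List.mem_append.1 hp with hp | hp
    · obtain ⟨i, hi, rfl⟩ := List.mem_map.1 hp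
      exact h1 i (List.mem_range.1 hi)
    · obtain ⟨i, hi, rfl⟩ := List.mem_map.1 hp
      exact h2 i (List.mem_range.1 hi)
  have h3 := steps_fix steps hK ChkC.steps_ok
  refine eq_one_of_comm fun y => ?_
  rw [(isPt_gen y).comm_iff]
  have h4 : y ∈ [Gen.l, .k, .a, .b, .c, .d, .e, .f, .g, .j, .h, .i] := by cases y <;> decide
  obtain ⟨p, hp, e⟩ := List.any_eq_true.1 (List.all_eq_true.1 ChkC.end_ok y h4)
  rw [Nat.eq_of_beq_eq_true e]
  exact h3 p hp

end Cfsg.Agent.H832.MF.Rig
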