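import Cfsg.Agent.H832.MF.Act
import Cfsg.Agent.H832.MF.ChkA
import Cfsg.Agent.H832.MF.ChkB
import Cfsg.Agent.H832.MF.ChkC

set_option autoImplicit false
set_option maxRecDepth 100000

/-!
# `3 ^ 16` divides the order of the group generated by the words `sw k` (helper832)
-/

namespace Cfsg.Agent.H832.MF.Syl

open Cfsg Cfsg.Agent.H832.MF.Ev Cfsg.Agent.H832.MF.Dat Cfsg.Agent.H832.MF.Abs Cfsg.Agent.H832.MF.Act
open Cfsg.Agent.Lib.PermNet Cfsg.Agent.Lib.PermNetPt Cfsg.Agent.Fischer.Fi24RepDef Cfsg.Agent.Fischer.Fi24Rep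
open Cfsg.Agent.KFacts.FiTF.Pts Cfsg.Agent.KFacts.FiTF.FixMask
open Cfsg.Agent.KFacts.FiTF.Defs (tr)
open Cfsg.Agent.R08.FiTwentyFour (L)
open Cfsg.Spor (Fi24)
open Cfsg.Spor.Fi24 (Gen)
open Cfsg.Agent.Fischer.Fi24Spider (word_append word_cons word_nil)

theorem all_range {n : ℕ} {f : ℕ → Bool} (h : (List.range n).all f = true) {i : ℕ} (hi : i < n) : f i = true :=
  List.all_eq_true.1 h i (List.mem_range.2 hi)

/-- the points -/
def v (i : Fin 270) : ℕ := pt i

/-- the addresses -/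
def a (i : Fin 270) : ℕ := ad i

theorem pt_lt (i : ℕ) : pt i < 2 ^ 19 := lk_lt _ _ _

theorem v_inj : Function.Injective v := by
  have key : ∀ i < 270, ∀ j < i, pt i ≠ pt j := by
    intro i hi j hj h
    have h1 := all_range (all_range ChkC.pt_inj hi) hj
    rw [h, Nat.beq_refl] at h1
    exact absurd h1 (by decide)
  intro i j hij
  apply Fin.ext
  rcases lt_trichotomy (i : ℕ) j with h | h | h
  · exact absurd hij.symm (key j j.2 i h)
  · exact h
  · exact absurd hij (key i i.2 j h)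

theorem a_inj : Function.Injective a := by
  intro i j hij
  apply Fin.ext
  unfold a ad at hij
  split_ifs at hij <;> omega

theorem a_lt (i : Fin 270) : a i < 3 ^ 6 := by
  have := i.2
  unfold a ad
  split_ifs <;> norm_num <;> omega

theorem tab_lt {k : ℕ} (hk : k < 6) {i : ℕ} (hi : i < 270) : tab k i < 270 :=
  Nat.le_of_ble_eq_true (all_range (all_range ChkC.tab_lt hk) hi)

/-- the permutation of the generator `k` -/
def tf (k : ℕ) (hk : k < 6) (i : Fin 270) : Fin 270 := ⟨tab k i, tab_lt hk i.2⟩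

theorem c_all {k : ℕ} (hk : k < 6) : ∀ b < 19, ckP (nw (sw k) false) b 270 pt (fun i => pt (tab k i)) = true := by
  interval_cases k
  · exact ChkA.c0
  · exact ChkB.c1
  · exact ChkA.c2
  · exact ChkA.c3
  · exact ChkA.c4
  · exact ChkA.c5

theorem tf_spec {k : ℕ} (hk : k < 6) (i : Fin 270) : rho (word (sw k)) (v i) = v (tf k hk i) :=
  rho_img (fun i _ => pt_lt i) (fun i _ => pt_lt (tab k i)) (c_all hk) i.2

theorem tf_iso {k : ℕ} (hk : k < 6) : Iso a (tf k hk) := by
  refine iso_of_table (fun A => if h : rd A < 270 then ⟨rd A, h⟩ else ⟨0, by norm_num⟩) a_lt a_inj ?_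
  intro i m hm
  have h1 : rd (a i % 3 ^ m) < 270 := Nat.le_of_ble_eq_true (all_range (all_range ChkC.rd_lt i.2) hm)
  have h2 := Nat.eq_of_beq_eq_true (all_range (all_range (all_range ChkC.iso hk) i.2) hm)
  rw [dif_pos h1]
  exact h2

/-- the group -/
def P : Subgroup Fi24 := Subgroup.closure {g | ∃ k < 6, g = word (sw k)}

theorem mem_P {k : ℕ} (hk : k < 6) : word (sw k) ∈ P := Subgroup.subset_closure ⟨k, hk, rfl⟩

theorem P_le : P ≤ Stb rho v a := by
  rw [P, Subgroup.closure_le]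
  rintro _ ⟨k, hk, rfl⟩
  refine ⟨Equiv.ofBijective (tf k hk) ((tf_iso hk).injective a_inj).bijective_of_finite, tf_iso hk, fun i => ?_⟩
  exact tf_spec hk i

/-- a word in the generators -/
def gw (w : List ℕ) : Fi24 := (w.map fun k => word (sw k)).prod

theorem ev_lt {w : List ℕ} (hw : ∀ k ∈ w, k < 6) {i : ℕ} (hi : i < 270) : ChkC.ev w i < 270 := by
  unfold ChkC.ev
  induction w with
  | nil => exact hi
  | cons k w ih =>
    rw [List.foldr_cons]
    exact tab_lt (hw k List.mem_cons_self) (ih fun k hk => hw k (List.mem_cons_of_mem _ hk))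

theorem gw_spec {w : List ℕ} (hw : ∀ k ∈ w, k < 6) {i : ℕ} (hi : i < 270) : rho (gw w) (pt i) = pt (ChkC.ev w i) := by
  induction w with
  | nil =>
    unfold gw
    rw [List.map_nil, List.prod_nil, map_one, Equiv.Perm.one_apply]
    rfl
  | cons k w ih =>
    have hw' : ∀ k ∈ w, k < 6 := fun k hk => hw k (List.mem_cons_of_mem _ hk)
    have h1 : gw (k :: w) = word (sw k) * gw w := by
      unfold gw
      rw [List.map_cons, List.prod_cons]
    rw [h1, map_mul, Equiv.Perm.mul_apply, ih hw']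
    exact tf_spec (hw k List.mem_cons_self) ⟨ChkC.ev w i, ev_lt hw' hi⟩

theorem gw_mem {w : List ℕ} (hw : ∀ k ∈ w, k < 6) : gw w ∈ P := by
  unfold gw
  apply Subgroup.list_prod_mem
  intro x hx
  obtain ⟨k, hk, rfl⟩ := List.mem_map.1 hx
  exact mem_P (hw k hk)

/-- the points and the transpositions of the list `UL` -/
def up (k : ℕ) : ℕ := (UL.getD k ([], .l, 0)).2.2

/-- the transposition `k` of the list -/
def ud (k : ℕ) : Fi24 := tr (UL.getD k ([], .l, 0)).1 (UL.getD k ([], .l, 0)).2.1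

theorem ud_pt {k : ℕ} (hk : k < 64) : IsPt (ud k) (up k) := by
  have hk' : k < UL.length := by rw [ChkC.UL_length]; exact hk
  have h1 := List.all_eq_true.1 ChkC.isPt _ (List.getElem_mem hk')
  unfold ud up
  rw [List.getD_eq_getElem _ _ hk']
  exact isPt_tr h1

theorem up_pt {i : ℕ} (hi : i < 27) : up i = pt i := Nat.eq_of_beq_eq_true (all_range ChkC.UL_pt hi)

theorem up_bt {i : ℕ} (hi : i < 26) : up (27 + i) = bt (i + 1) := Nat.eq_of_beq_eq_true (all_range ChkC.UL_bt hi)

theorem ud_mem {k : ℕ} (hk : k < 64) : ud k ∈ L := (ud_pt hk).mem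

theorem sw4 : word (sw 4) = ud 0 * ud 12 := by
  rw [ud, tr, ud, tr, ← word_append]
  rfl

theorem sw5 : word (sw 5) = ud 0 * ud 21 := by
  rw [ud, tr, ud, tr, ← word_append]
  rfl

/-- the product of two non-commuting transpositions -/
theorem pow_three {d e : Fi24} (hd : d ∈ L) (he : e ∈ L) (h : ¬ Commute d e) : (d * e) ^ 3 = 1 :=
  Cfsg.Agent.Fischer.Fi24Rep.pow_three_of_braid (R08.FiTwentyFour.sq hd) (R08.FiTwentyFour.sq he)
    ((R08.FiTwentyFour.three hd he).resolve_left h)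

/-- the central element -/
def z : Fi24 := word (sw 4) * word (sw 5) * (word (sw 4))⁻¹ * (word (sw 5))⁻¹

theorem z_mem : z ∈ P :=
  mul_mem (mul_mem (mul_mem (mem_P (by norm_num)) (mem_P (by norm_num))) (inv_mem (mem_P (by norm_num))))
    (inv_mem (mem_P (by norm_num)))

theorem z_fix (i : Fin 270) : rho z (v i) = v i := by
  have h4 : (4 : ℕ) < 6 := by norm_num
  have h5 : (5 : ℕ) < 6 := by norm_num
  -- `i = s5 s4 j`
  have key : ∀ j : Fin 270, rho z (rho (word (sw 5) * word (sw 4)) (v j)) = rho (word (sw 5) * word (sw 4)) (v j) := by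
    intro j
    rw [← Equiv.Perm.mul_apply, ← map_mul]
    have e1 : z * (word (sw 5) * word (sw 4)) = word (sw 4) * word (sw 5) := by unfold z; group
    rw [e1, map_mul, map_mul, Equiv.Perm.mul_apply, Equiv.Perm.mul_apply, tf_spec h5, tf_spec h4, tf_spec h4,
      tf_spec h5]
    congr 1
    exact Fin.ext (Nat.eq_of_beq_eq_true (all_range ChkC.z_fix j.2))
  obtain ⟨σ, -, hσ⟩ := mem_Stb.1 (P_le (mul_mem (mem_P h5) (mem_P h4)))
  have h1 := key (σ⁻¹ i)
  rw [hσ, show σ (σ⁻¹ i) = i from σ.apply_symm_apply i] at h1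
  exact h1

theorem z_ne : z ≠ 1 := by
  intro h
  have h1 : word (sw 4) * word (sw 5) = word (sw 5) * word (sw 4) := by
    have e1 : z * (word (sw 5) * word (sw 4)) = word (sw 4) * word (sw 5) := by unfold z; group
    rw [← e1, h, one_mul]
  rw [← word_append, ← word_append] at h1
  have h2 := rho_of_chkPt ChkC.z_move1
  have h3 := rho_of_chkPt ChkC.z_move2
  have h4 := (h2.symm.trans (congrArg (fun g => rho g 2) h1)).trans h3
  norm_num at h4

theorem z_comm {k : ℕ} (hk : k < 27) : z * ud k = ud k * z := by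
  rw [(ud_pt (show k < 64 by omega)).comm_iff, up_pt hk]
  exact z_fix ⟨k, by omega⟩

theorem not_comm : ¬ Commute (ud 0) (ud 21) := by
  intro h
  have h1 : rho (ud 0) (up 21) = up 21 := ((ud_pt (by norm_num)).comm_iff (ud 0)).1 h
  have h2 : rho (ud 21) (up 21) = up 21 := ((ud_pt (by norm_num)).comm_iff (ud 21)).1 rfl
  have h3 := tf_spec (k := 5) (by norm_num) ⟨21, by norm_num⟩
  rw [sw5, map_mul, Equiv.Perm.mul_apply] at h3
  have h4 : v ⟨21, by norm_num⟩ = up 21 := (up_pt (by norm_num)).symm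
  rw [h4, h2, h1, ← h4] at h3
  have h5 := congrArg Fin.val (v_inj h3)
  exact absurd h5 (by decide +kernel)

theorem z_cube : z ^ 3 = 1 := by
  have c0 : Commute z (ud 0) := z_comm (by norm_num)
  have c2 : Commute z (ud 21) := z_comm (by norm_num)
  have c5 : Commute z (word (sw 5)) := by rw [sw5]; exact c0.mul_right c2
  have h5 : word (sw 5) ^ 3 = 1 := by
    rw [sw5]
    exact pow_three (ud_mem (by norm_num)) (ud_mem (by norm_num)) not_comm
  have h1 : word (sw 4) * word (sw 5) * (word (sw 4))⁻¹ = z * word (sw 5) := by unfold z; group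
  have h2 : (word (sw 4) * word (sw 5) * (word (sw 4))⁻¹) ^ 3 = (z * word (sw 5)) ^ 3 := by rw [h1]
  rw [conj_pow, h5, c5.mul_pow, h5, mul_one, mul_one, mul_inv_cancel] at h2
  exact h2.symm

/-- the base point and the level of the triangular sequence -/
def cb (j : ℕ) : ℕ := (chain.getD j (0, 0, [])).1

theorem cb_lt (j : ℕ) : cb j < 270 := by
  unfold cb
  rcases Nat.lt_or_ge j chain.length with h | h
  · rw [List.getD_eq_getElem _ _ h]
    have h1 := List.all_eq_true.1 ChkC.chain_lt _ (List.getElem_mem h)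
    rw [Bool.and_eq_true] at h1
    exact Nat.le_of_ble_eq_true h1.1
  · rw [List.getD_eq_default _ _ h]
    norm_num

theorem dvd_of_mod {x y m : ℕ} (h : x % m = y % m) : ((m : ℕ) : ℤ) ∣ (x : ℤ) - y :=
  (Int.natCast_modEq_iff.2 (show y ≡ x [MOD m] from h.symm)).dvd

theorem mod_of_dvd {x y m : ℕ} (h : ((m : ℕ) : ℤ) ∣ (x : ℤ) - y) : x % m = y % m :=
  (Int.natCast_modEq_iff.1 (Int.modEq_iff_dvd.2 h)).symm

theorem three_pow : 3 ^ 16 ∣ Nat.card P := by
  have hfin := R08.FiTwentyFour.finite_Fi24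
  refine card_dvd_succ (ρ := rho) (v := v) (a := a) v_inj a_inj P_le (fun j => ⟨cb j, cb_lt j⟩)
    (fun j => (chain.getD j (0, 0, [])).2.1) (m := 15) ?_ z_mem z_cube z_ne z_fix
  intro j hj
  have hj' : j < chain.length := by rw [ChkC.chain_length]; exact hj
  have hw : ∀ k ∈ (chain.getD j (0, 0, [])).2.2, k < 6 := by
    rw [List.getD_eq_getElem _ _ hj']
    have h1 := List.all_eq_true.1 ChkC.chain_lt _ (List.getElem_mem hj')
    rw [Bool.and_eq_true] at h1
    intro k hk
    exact Nat.le_of_ble_eq_true (List.all_eq_true.1 h1.2 k hk)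
  have h1 := all_range ChkC.chain_ok hj
  rw [Bool.and_eq_true] at h1
  refine ⟨gw (chain.getD j (0, 0, [])).2.2, gw_mem hw, fun i => ⟨ChkC.ev (chain.getD j (0, 0, [])).2.2 i, ev_lt hw i.2⟩,
    fun i => gw_spec hw i.2, fun l hl => ?_, ?_⟩
  · have h2 := dvd_of_mod (Nat.eq_of_beq_eq_true (all_range h1.1 hl))
    rw [Nat.cast_pow] at h2
    exact h2
  · intro h
    have h2 := mod_of_dvd (x := a ⟨ChkC.ev (chain.getD j (0, 0, [])).2.2 (cb j), ev_lt hw (cb_lt j)⟩)
      (y := a ⟨cb j, cb_lt j⟩) (m := 3 ^ (chain.getD j (0, 0, [])).2.1) (by rw [Nat.cast_pow]; exact h)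
    have h3 : (!Nat.beq (a ⟨ChkC.ev (chain.getD j (0, 0, [])).2.2 (cb j), ev_lt hw (cb_lt j)⟩ %
      3 ^ (chain.getD j (0, 0, [])).2.1) (a ⟨cb j, cb_lt j⟩ % 3 ^ (chain.getD j (0, 0, [])).2.1)) = true := h1.2
    rw [h2, Nat.beq_refl] at h3
    exact absurd h3 (by decide)

end Cfsg.Agent.H832.MF.Syl
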